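import Mathlib
import Cfsg.Agent.Base
import Cfsg.Agent.Lib.LocEven.S3Recog
import Cfsg.Agent.Lib.TwoFusion.Tools

/-!
Amalgams of index `(3, 3)`: edges without the characteristic-two hypotheses, and Sims' theorem.
-/

set_option autoImplicit false
set_option linter.unusedSectionVars false
set_option linter.unusedVariables false

namespace H3.G3

open Subgroup H69 H70 Cfsg
open scoped commutatorElement Pointwise

variable {X : Type*} [Group X] [Finite X]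

theorem exists_core {A B : Subgroup X} (h : B.relIndex A = 3) :
    ∃ K, K ≤ A ⊓ B ∧ A ≤ 𝐍(K) ∧ Le2 K (A ⊓ B) := by
  set B' := B.subgroupOf A with hB'
  have h1 : B'.normalCore.index ∣ 6 := by
    have : B'.normalCore.index ∣ B'.index.factorial := by
      rw [Subgroup.normalCore_eq_ker, Subgroup.index_ker, Subgroup.index_eq_card, ← Nat.card_perm]
      exact Subgroup.card_subgroup_dvd_card _
    rwa [show B'.index = 3 from h] at this
  have h2 := relIndex_mul_index B'.normalCore_le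
  rw [show B'.index = 3 from h] at h2
  have hmap : B'.map A.subtype = A ⊓ B := by rw [hB', subgroupOf_map_subtype, inf_comm]
  have h3 : (B'.normalCore.map A.subtype).relIndex (A ⊓ B) = B'.normalCore.relIndex B' := by
    rw [← hmap, relIndex_map_map_of_injective _ _ A.subtype_injective]
  refine ⟨B'.normalCore.map A.subtype, hmap ▸ map_mono B'.normalCore_le,
    normal_iff_le_normalizer_map.1 inferInstance, ?_⟩
  have h4 : B'.normalCore.relIndex B' ∣ 2 := by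
    rw [← h2] at h1
    exact Nat.dvd_of_mul_dvd_mul_right (by norm_num : 0 < 3) h1
  rcases (Nat.dvd_prime Nat.prime_two).1 h4 with h5 | h5
  · exact le2_of_le (relIndex_eq_one.1 (h3.trans h5))
  · exact le2_of_relIndex (h3.trans h5)

theorem isPGroup_inf {A B : Subgroup X} (h : B.relIndex A = 3) (h' : A.relIndex B = 3)
    (core : ∀ N : Subgroup X, N ≤ A ⊓ B → A ≤ 𝐍(N) → B ≤ 𝐍(N) → N = ⊥) :
    IsPGroup 2 (A ⊓ B : Subgroup X) := by
  have key : ∀ {A B : Subgroup X}, B.relIndex A = 3 → A ≤ 𝐍(𝐑(2, A ⊓ B)) := by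
    intro A B h
    obtain ⟨K, h1, h2, h3⟩ := exists_core h
    have : 𝐑(2, K) = 𝐑(2, A ⊓ B) :=
      res_eq_of_le (res_le_of_pow_mem fun x hx => ⟨1, by
        rw [pow_one, pow_two]
        by_cases hK : x ∈ K
        exacts [mul_mem hK hK, h3 x hx x hx hK hK]⟩) h1
    exact this ▸ le_normalizer_res_of_le h2
  exact isPGroup_of_res_eq_bot (core _ (res_le _) (key h) (by rw [inf_comm]; exact key h'))

structure WE (A B : Subgroup X) : Prop where
  isP : IsPGroup 2 (A ⊓ B : Subgroup X)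
  idx3 : B.relIndex A = 3
  idx2 : (𝐎(A)).relIndex (A ⊓ B) = 2
  Ole : 𝐎(A) ≤ B
  core : ∀ N : Subgroup X, N ≤ A ⊓ B → A ≤ 𝐍(N) → B ≤ 𝐍(N) → N = ⊥

theorem sylowIn_of_three {A B : Subgroup X} (hP : IsPGroup 2 (A ⊓ B : Subgroup X)) (h : B.relIndex A = 3) :
    H68.SylowIn 2 (A ⊓ B) A :=
  H68.sylowIn_of_not_dvd_relIndex hP inf_le_left (by rw [inf_relIndex_left, h]; norm_num)

theorem we_of_not_normal {A B : Subgroup X} (hP : IsPGroup 2 (A ⊓ B : Subgroup X)) (h : B.relIndex A = 3)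
    (core : ∀ N : Subgroup X, N ≤ A ⊓ B → A ≤ 𝐍(N) → B ≤ 𝐍(N) → N = ⊥) (hn : ¬ A ≤ 𝐍(A ⊓ B)) :
    WE A B := by
  obtain ⟨K, h1, h2, h3⟩ := exists_core h
  have hO : 𝐎(A) ≤ A ⊓ B := (sylowIn_of_three hP h).pCoreOf_le
  have hK : K ≤ 𝐎(A) := le_pCoreOf (hP.to_le h1) (h1.trans inf_le_left) h2
  refine ⟨hP, h, (h3.mono_left hK).relIndex_eq fun h4 => hn ?_, hO.trans inf_le_right, core⟩
  rw [le_antisymm h4 hO]
  exact le_normalizer_pCoreOf 2 A

namespace WE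

variable {A B : Subgroup X}

theorem cj (h : WE A B) (g : X) : WE (A ^ᶜ g) (B ^ᶜ g) := by
  refine ⟨?_, ?_, ?_, ?_, fun N h1 h2 h3 => ?_⟩
  · rw [← cj_inf]; exact isPGroup_cj h.isP g
  · rw [relIndex_cj, h.idx3]
  · rw [← cj_inf, ← cj_pCoreOf, relIndex_cj, h.idx2]
  · rw [← cj_pCoreOf]; exact cj_mono g h.Ole
  · rw [← cj_inf, le_cj_iff] at h1
    rw [cj_le_iff, cj_normalizer] at h2 h3
    exact cj_eq_bot_iff.1 (h.core _ h1 h2 h3)

theorem O_le (h : WE A B) : 𝐎(A) ≤ A ⊓ B := le_inf (pCoreOf_le 2 A) h.Ole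

theorem le_of_mem (h : WE A B) {N : Subgroup X} (hN : A ⊓ B ≤ N) {x : X} (hx : x ∈ A) (hxB : x ∉ B)
    (hxN : x ∈ N) : A ≤ N :=
  le_of_relIndex_prime' Nat.prime_three h.idx3 ((inf_comm _ _).le.trans hN) hx hxB hxN

theorem le_of_not_le (h : WE A B) {N C : Subgroup X} (hN : A ⊓ B ≤ N) (hC : C ≤ A) (hCB : ¬ C ≤ B)
    (hCN : C ≤ N) : A ≤ N := by
  obtain ⟨x, hx, hxB⟩ := exists_not_mem_of_not_le hCB
  exact h.le_of_mem hN (hC hx) hxB (hCN hx)

theorem le2 (h : WE A B) : Le2 𝐎(A) (A ⊓ B) := le2_of_relIndex h.idx2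

theorem not_le (h : WE A B) : ¬ A ≤ B := not_le_of_relIndex_prime Nat.prime_three h.idx3

theorem not_le_O (h : WE A B) : ¬ A ⊓ B ≤ 𝐎(A) := not_le_of_relIndex_prime Nat.prime_two h.idx2

theorem sylowIn (h : WE A B) : H68.SylowIn 2 (A ⊓ B) A := sylowIn_of_three h.isP h.idx3

theorem le_O (h : WE A B) {N : Subgroup X} (h1 : N ≤ A ⊓ B) (h2 : A ≤ 𝐍(N)) : N ≤ 𝐎(A) :=
  le_pCoreOf (h.isP.to_le h1) (h1.trans inf_le_left) h2

theorem inf_cj_le (h : WE A B) {g : X} (hg : g ∈ A) (hgB : g ∉ B) : A ⊓ B ⊓ B ^ᶜ g ≤ 𝐎(A) := by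
  intro x hx
  by_contra hxO
  have h1 : A ⊓ B ≤ (A ⊓ B) ^ᶜ g := by
    refine h.le2.le_of_mem (inf_le_left.trans ?_) hx.1 hxO ?_
    · rw [← cj_eq_of_mem_normalizer (le_normalizer_pCoreOf 2 A hg)]
      exact cj_mono g h.O_le
    · rw [cj_inf, cj_eq_of_mem hg]
      exact ⟨hx.1.1, hx.2⟩
  have h2 : g⁻¹ ∈ 𝐍(A ⊓ B) := H68.mem_normalizer_of_cj_le (le_cj_iff.1 h1)
  exact h.not_le_O (le_pCoreOf h.isP inf_le_left
    (h.le_of_mem le_normalizer hg hgB (inv_mem_iff.1 h2)))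

theorem eq_bot_of_cent (h : WE A B) {N : Subgroup X} (h1 : N ≤ A ⊓ B) (h2 : N ≤ 𝐂(A)) (h3 : N ≤ 𝐂(B)) :
    N = ⊥ :=
  h.core N h1 (le_normalizer_of_le_centralizer (le_centralizer_comm.1 h2))
    (le_normalizer_of_le_centralizer (le_centralizer_comm.1 h3))

theorem card_eq (h : WE A B) : Nat.card A = 3 * Nat.card (A ⊓ B : Subgroup X) := by
  rw [← h.idx3, ← inf_relIndex_left, relIndex, ← H69.card_subgroupOf (inf_le_left : A ⊓ B ≤ A),
    index_mul_card]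

theorem card_inf (h : WE A B) : Nat.card (A ⊓ B : Subgroup X) = 2 * Nat.card 𝐎(A) := by
  rw [h.le2.card_eq h.not_le_O, inf_eq_left.2 h.O_le]

theorem norm_O (h' : WE B A) : A ⊓ B ≤ 𝐍(𝐎(B)) := inf_le_right.trans (le_normalizer_pCoreOf 2 B)

theorem cent_not_le (h : WE A B) (hc : ¬ A ⊓ 𝐂(𝐎(A)) ≤ 𝐎(A)) : ¬ A ⊓ 𝐂(𝐎(A)) ≤ B := fun h1 =>
  hc (h.le_O (le_inf inf_le_left h1)
    (H69.le_normalizer_inf le_normalizer (H69.le_normalizer_centralizer (le_normalizer_pCoreOf 2 A))))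

/-- if `A` is not of characteristic two, every subgroup of `O₂(A)` normal in the edge group is normal in `A`. -/
theorem norm_of_not_ch (h : WE A B) (hc : ¬ A ⊓ 𝐂(𝐎(A)) ≤ 𝐎(A)) {N : Subgroup X} (h1 : N ≤ 𝐎(A))
    (h2 : A ⊓ B ≤ 𝐍(N)) : A ≤ 𝐍(N) :=
  h.le_of_not_le h2 inf_le_left (h.cent_not_le hc)
    (le_normalizer_of_le_centralizer (inf_le_right.trans (H69.centralizer_anti h1)))

theorem edge (h : WE A B) (hc : A ⊓ 𝐂(𝐎(A)) ≤ 𝐎(A)) (hn : ¬ A ≤ 𝐂(𝐙(A ⊓ B))) : Edge A B :=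
  ⟨inferInstance, h.isP, h.idx3, h.idx2, h.Ole, hc, hn, h.core⟩

theorem exists_three (h : WE A B) : ∃ y ∈ A, orderOf y = 3 ∧ y ∉ B := by
  have : Fact (Nat.Prime 3) := ⟨Nat.prime_three⟩
  obtain ⟨y, hy⟩ := exists_prime_orderOf_dvd_card' (G := A) 3 (h.card_eq ▸ Dvd.intro _ rfl)
  have hy' : orderOf (y : X) = 3 := by rw [Subgroup.orderOf_coe, hy]
  refine ⟨y, y.2, hy', fun hB => ?_⟩
  have := eq_one_of_mem_isPGroup h.isP (x := y) ⟨y.2, hB⟩ (by rw [hy']; norm_num)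
  rw [this] at hy'
  simp at hy'

theorem dihedral (h : WE A B) {z s : X} {m : ℕ} (hz : z ∈ 𝐎(A)) (hz2 : z * z = 1) (hc : A ≤ 𝐂(𝐎(A)))
    (hs : s ∈ A ⊓ B) (hsO : s ∉ 𝐎(A)) (hs2 : s * s = 1) (hm : m = 3 * orderOf z)
    (hO : Nat.card 𝐎(A) = orderOf z) : Nonempty (A ≃* DihedralGroup m) := by
  obtain ⟨y, hy, hy3, hyB⟩ := h.exists_three
  have hzA : z ∈ A := pCoreOf_le 2 A hz
  have hzc : ∀ g ∈ A, Commute z g := fun g hg => hc hg z hz
  have hz2' : orderOf z ∣ 2 := orderOf_dvd_of_pow_eq_one (by rw [pow_two, hz2])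
  have hzpos : 0 < orderOf z := orderOf_pos z
  have ha : orderOf (y * z) = m := by
    rw [(hzc y hy).symm.orderOf_mul_eq_mul_orderOf_of_coprime, hy3, hm]
    rw [hy3]
    exact Nat.Coprime.coprime_dvd_right hz2' (by norm_num)
  have hle : zpowers (y * z) ≤ A := zpowers_le_of_mem (mul_mem hy hzA)
  have hl2 : Le2 (zpowers (y * z)) A := le2_of_card_le (by
    rw [inf_eq_left.2 hle, Nat.card_zpowers, ha, h.card_eq, h.card_inf, hO, hm]; omega)
  have hpow : ∀ u ∈ zpowers (y * z), ∃ i : ℕ, u = y ^ i * z ^ i := fun u hu => by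
    obtain ⟨i, rfl⟩ := mem_powers_iff_mem_zpowers.2 hu
    exact ⟨i, (hzc y hy).symm.mul_pow i⟩
  have y3 : y ^ 3 = 1 := hy3 ▸ pow_orderOf_eq_one y
  have hyT : ¬ A ⊓ B ≤ centralizer {y} := fun h1 =>
    h.not_le_O (h.le_O le_rfl (h.le_of_mem le_normalizer hy hyB
      (centralizer_le_normalizer _ (le_centralizer_singleton_iff.1 h1))))
  have hsy : ¬ Commute s y := fun h1 => hyT (h.le2.le_of_mem (N := centralizer {y})
    (inf_le_left.trans (le_centralizer_singleton_iff.2 (hc hy))) hs hsO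
    (mem_centralizer_singleton_iff.2 h1))
  have hsn : s ∉ zpowers (y * z) := fun h1 => hsy (by
    obtain ⟨i, rfl⟩ := hpow s h1
    exact ((Commute.refl y).pow_left i).mul_left ((hzc y hy).pow_left i))
  have hsi : s⁻¹ = s := inv_eq_of_mul_eq_one_right hs2
  have hyz : y ∈ zpowers (y * z) := by
    refine ⟨4, ?_⟩
    change (y * z) ^ ((4 : ℕ) : ℤ) = y
    rw [zpow_natCast, (hzc y hy).symm.mul_pow, show z ^ 4 = (z * z) * (z * z) by simp [pow_succ, mul_assoc], hz2,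
      show y ^ 4 = y ^ 3 * y from pow_succ y 3, y3]
    simp
  have hconj : s * y * s⁻¹ = y⁻¹ := by
    have h1 : s * y * s⁻¹ ∈ zpowers (y * z) :=
      hl2.mul_inv (mul_mem hs.1 hy) hs.1 (fun h2 => hsn ((mul_mem_cancel_right hyz).1 h2)) hsn
    obtain ⟨i, hi⟩ := hpow _ h1
    have h2 : (y ^ i * z ^ i) ^ 3 = 1 := by rw [← hi, conj_pow, y3]; simp
    rw [((hzc y hy).symm.pow_pow i i).mul_pow, ← pow_mul, mul_comm i 3, pow_mul, y3, one_pow, one_mul,
      pow_succ, ← pow_mul, mul_comm i 2, pow_mul, pow_two, hz2, one_pow, one_mul] at h2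
    rw [h2, mul_one, ← Nat.div_add_mod i 3, pow_add, pow_mul, y3, one_pow, one_mul] at hi
    have h3 : i % 3 < 3 := Nat.mod_lt _ (by norm_num)
    interval_cases i % 3
    · exfalso
      have : y = 1 := by simpa using hi
      rw [this] at hy3
      simp at hy3
    · exact absurd (by rw [pow_one] at hi; exact mul_inv_eq_iff_eq_mul.1 hi) hsy
    · rw [hi]
      exact eq_inv_of_mul_eq_one_left (by rw [← pow_succ, y3])
  refine H41.nonempty_mulEquiv_dihedral (a := y * z) (b := s) (by omega) ha hs2 ?_ hsn fun g => ⟨fun hg => ?_, ?_⟩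
  · rw [← mul_assoc, mul_assoc (s * y), (hzc _ (inv_mem hs.1)).eq, ← mul_assoc, hconj, mul_inv_rev,
      inv_eq_of_mul_eq_one_right hz2, (hzc _ (inv_mem hy)).eq]
  · by_cases h1 : g ∈ zpowers (y * z)
    · obtain ⟨i, rfl⟩ := h1
      exact ⟨i, Or.inl rfl⟩
    · obtain ⟨i, hi⟩ := hl2 g hg s hs.1 h1 hsn
      refine ⟨i, Or.inr ?_⟩
      have hi' : (y * z) ^ i = g * s := hi
      rw [hi', mul_assoc, hs2, mul_one]
  · rintro ⟨i, rfl | rfl⟩
    · exact hle ⟨i, rfl⟩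
    · exact mul_mem (hle ⟨i, rfl⟩) hs.1

end WE

theorem perm_three_equiv : Nonempty (DihedralGroup 3 ≃* Equiv.Perm (Fin 3)) := by
  obtain ⟨e⟩ := H41.nonempty_mulEquiv_dihedral (H := (⊤ : Subgroup (Equiv.Perm (Fin 3))))
    (a := Equiv.swap 0 1 * Equiv.swap 1 2) (b := Equiv.swap 0 1) (m := 3) (by decide)
    (orderOf_eq_prime (by decide) (by decide)) (by decide) (by decide) (by
      intro h
      have := Equiv.Perm.sign.map_zpowers (Equiv.swap (0 : Fin 3) 1 * Equiv.swap 1 2) ▸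
        mem_map_of_mem Equiv.Perm.sign h
      simp at this) fun g => ⟨fun _ => by
      have : ∀ g : Equiv.Perm (Fin 3), ∃ i : Fin 3, g = (Equiv.swap 0 1 * Equiv.swap 1 2) ^ (i : ℕ) ∨
        g = (Equiv.swap 0 1 * Equiv.swap 1 2) ^ (i : ℕ) * Equiv.swap 0 1 := by decide
      obtain ⟨i, hi⟩ := this g
      exact ⟨(i : ℕ), by simpa using hi⟩, fun _ => trivial⟩
  exact ⟨e.symm.trans topEquiv⟩

/-- `Ω₁Z(T)` cannot be central in one of two conjugate vertex groups. -/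
theorem WE.nc_of_cj {A B : Subgroup X} (h : WE A B) (h' : WE B A) {x : X} (hx : B = A ^ᶜ x) :
    ¬ A ≤ 𝐂(𝐙(A ⊓ B)) := by
  intro h1
  have h2 : B ≤ 𝐂(𝐙(A ⊓ B) ^ᶜ x) := by rw [← cj_centralizer, hx]; exact cj_mono x (hx ▸ h1)
  have h3 : 𝐙(A ⊓ B) ^ᶜ x ≤ B := by
    conv_rhs => rw [hx]
    exact cj_mono x ((oz2_le _).trans inf_le_left)
  have h4 : 𝐙(A ⊓ B) ^ᶜ x ≤ A ⊓ B :=
    (le_pCoreOf (isPGroup_cj (oz2_isPGroup _) x) h3 (le_normalizer_of_le_centralizer h2)).trans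
      (h'.O_le.trans (inf_comm B A).le)
  have h5 : 𝐙(A ⊓ B) ^ᶜ x ≤ 𝐙(A ⊓ B) :=
    le_oz2 (by rw [cj_oz2]; exact oz2_ea _) h4
      (le_centralizer_comm.1 (inf_le_right.trans h2))
  rw [cj_eq_of_cj_le h5] at h2
  refine oz2_ne_bot h.isP (fun e => h.not_le_O (e.le.trans bot_le)) ?_
  exact h.eq_bot_of_cent (oz2_le _) (le_centralizer_comm.1 h1) (le_centralizer_comm.1 h2)

/-- Sims' theorem. -/
theorem sims {A B : Subgroup X} {x : X} (hx : B = A ^ᶜ x) (h : B.relIndex A = 3) (h' : A.relIndex B = 3)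
    (core : ∀ N : Subgroup X, N ≤ A ⊓ B → A ≤ 𝐍(N) → B ≤ 𝐍(N) → N = ⊥) :
    Nonempty (A ≃* Multiplicative (ZMod 3)) ∨ Nonempty (A ≃* Equiv.Perm (Fin 3)) ∨
      Nonempty (A ≃* DihedralGroup 6) ∨ Nonempty (A ≃* Equiv.Perm (Fin 4)) ∨
      Nonempty (A ≃* Equiv.Perm (Fin 4) × Multiplicative (ZMod 2)) := by
  have hP := isPGroup_inf h h' core
  have hP' : IsPGroup 2 (B ⊓ A : Subgroup X) := by rwa [inf_comm]
  have core' : ∀ N : Subgroup X, N ≤ B ⊓ A → B ≤ 𝐍(N) → A ≤ 𝐍(N) → N = ⊥ :=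
    fun N h1 h2 h3 => core N (h1.trans (inf_comm B A).le) h3 h2
  have hx' : A = B ^ᶜ x⁻¹ := by rw [hx, cj_cj_inv]
  have norm : ∀ {A B : Subgroup X} {x : X}, B = A ^ᶜ x → IsPGroup 2 (A ⊓ B : Subgroup X) → B.relIndex A = 3 →
      A.relIndex B = 3 → A ≤ 𝐍(A ⊓ B) → B ≤ 𝐍(A ⊓ B) := by
    intro A B x hx hP h h' hn
    have s1 : H68.SylowIn 2 ((A ⊓ B) ^ᶜ x) (A ^ᶜ x) := (sylowIn_of_three hP h).cj x
    rw [← hx] at s1
    have s2 := sylowIn_of_three (by rwa [inf_comm]) h'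
    have hn' : B ≤ 𝐍((A ⊓ B) ^ᶜ x) := by
      rw [← cj_normalizer]
      conv_lhs => rw [hx]
      exact cj_mono x hn
    rw [s2.eq_of_le s1.isPGroup (s1.le_of_normalizes s2.isPGroup s2.le (s2.le.trans hn')) s1.le] at hn'
    rwa [inf_comm]
  by_cases hn : A ≤ 𝐍(A ⊓ B)
  · left
    have h0 := core _ le_rfl hn (norm hx hP h h' hn)
    have : Fact (Nat.Prime 3) := ⟨Nat.prime_three⟩
    have hc : Nat.card A = 3 := by
      rw [← h, ← inf_relIndex_left, h0, relIndex_bot_left]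
    exact ⟨mulEquivOfPrimeCardEq hc (by simp)⟩
  have w := we_of_not_normal hP h core hn
  have w' := we_of_not_normal hP' h' core' fun h1 => hn (by
    rw [inf_comm]; exact norm hx' hP' h' h h1)
  by_cases hc : A ⊓ 𝐂(𝐎(A)) ≤ 𝐎(A)
  · have hc' : B ⊓ 𝐂(𝐎(B)) ≤ 𝐎(B) := by
      rw [hx, ← cj_pCoreOf, ← cj_centralizer, ← cj_inf]
      exact cj_mono x hc
    rcases (w.edge hc (w.nc_of_cj w' hx)).iso (w'.edge hc' (w'.nc_of_cj w hx')) with ⟨h1, -⟩ | ⟨⟨⟨e⟩, -⟩⟩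
    · exact Or.inr (Or.inr (Or.inr (Or.inl h1)))
    · exact Or.inr (Or.inr (Or.inr (Or.inr ⟨e.trans MulEquiv.prodComm⟩)))
  have hc' : ¬ B ⊓ 𝐂(𝐎(B)) ≤ 𝐎(B) := fun h1 => hc (by
    rw [hx', ← cj_pCoreOf, ← cj_centralizer, ← cj_inf]
    exact cj_mono _ h1)
  have hnorm : A ⊓ B ≤ 𝐍(𝐎(A) ⊓ 𝐎(B)) :=
    H69.le_normalizer_inf (inf_le_left.trans (le_normalizer_pCoreOf 2 A)) w'.norm_O
  have h0 : 𝐎(A) ⊓ 𝐎(B) = ⊥ := core _ (inf_le_left.trans w.O_le) (w.norm_of_not_ch hc inf_le_left hnorm)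
    (w'.norm_of_not_ch hc' inf_le_right ((inf_comm B A).le.trans hnorm))
  have hle : Nat.card 𝐎(A) ≤ 2 := by
    have := (w'.le2.mono_right (w.O_le.trans (inf_comm A B).le)).card_le
    rwa [inf_comm, h0, card_bot] at this
  have hcent : A ≤ 𝐂(𝐎(A)) := (le_normalizer_pCoreOf 2 A).trans (normalizer_le_centralizer_of_card_le_two hle)
  have hcO : Nat.card 𝐎(B) = Nat.card 𝐎(A) := by rw [hx, ← cj_pCoreOf, card_cj]
  have hpos : 0 < Nat.card 𝐎(A) := Nat.card_pos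
  have sq : ∀ {U : Subgroup X}, Nat.card U = 2 → ∀ u ∈ U, u * u = 1 := fun {U} hU u hu => by
    have := pow_card_eq_one' (G := U) (x := ⟨u, hu⟩)
    rw [hU, pow_two] at this
    exact congrArg Subtype.val this
  rcases (by omega : Nat.card 𝐎(A) = 1 ∨ Nat.card 𝐎(A) = 2) with h1 | h1
  · obtain ⟨s, hs, hsO⟩ := exists_not_mem_of_not_le w.not_le_O
    obtain ⟨e⟩ := w.dihedral (z := 1) (m := 3) (one_mem _) (mul_one 1) hcent hs hsO
      (sq (by rw [w.card_inf, h1]) s hs) (by simp) (by simpa using h1)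
    obtain ⟨e'⟩ := perm_three_equiv
    exact Or.inr (Or.inl ⟨e.trans e'⟩)
  · obtain ⟨z, hz, hz1⟩ := exists_ne_one_of_ne_bot (U := 𝐎(A)) fun e => by simp [e] at h1
    obtain ⟨s, hs, hs1⟩ := exists_ne_one_of_ne_bot (U := 𝐎(B)) fun e => by simp [e, h1] at hcO
    have ho : orderOf z = 2 := orderOf_eq_prime (by rw [pow_two, sq h1 z hz]) hz1
    exact Or.inr (Or.inr (Or.inl (w.dihedral hz (sq h1 z hz) hcent ((inf_comm B A).le (w'.O_le hs))
      (fun h2 => hs1 (mem_bot.1 (h0.le ⟨h2, hs⟩))) (sq (hcO.trans h1) s hs) (by rw [ho]) (by rw [ho, h1]))))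

open MulAction in
theorem sims_perm {G Ω : Type*} [Group G] [Finite G] [MulAction G Ω] [FaithfulSMul G Ω]
    (hprim : IsPreprimitive G Ω) (a b : Ω) (h3 : Nat.card (orbit (stabilizer G a) b) = 3) :
    Nonempty (stabilizer G a ≃* Multiplicative (ZMod 3)) ∨ Nonempty (stabilizer G a ≃* Equiv.Perm (Fin 3)) ∨
      Nonempty (stabilizer G a ≃* DihedralGroup 6) ∨ Nonempty (stabilizer G a ≃* Equiv.Perm (Fin 4)) ∨
      Nonempty (stabilizer G a ≃* Equiv.Perm (Fin 4) × Multiplicative (ZMod 2)) := by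
  obtain ⟨x, rfl⟩ := exists_smul_eq G a b
  have hx : stabilizer G (x • a) = stabilizer G a ^ᶜ x := H68.stabilizer_smul x a
  have h1 : (stabilizer G (x • a)).relIndex (stabilizer G a) = 3 := by
    rw [← h3, Nat.card_coe_set_eq, ← index_stabilizer]
    rfl
  have h2 : (stabilizer G a).relIndex (stabilizer G (x • a)) = 3 := by
    have e1 := (((stabilizer G a) ⊓ stabilizer G (x • a)).subgroupOf (stabilizer G a)).index_mul_card
    have e2 := (((stabilizer G a) ⊓ stabilizer G (x • a)).subgroupOf (stabilizer G (x • a))).index_mul_card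
    rw [H69.card_subgroupOf inf_le_left, ← relIndex, inf_relIndex_left, h1] at e1
    rw [H69.card_subgroupOf inf_le_right, ← relIndex, inf_relIndex_right, hx, card_cj, ← hx, ← e1] at e2
    exact Nat.eq_of_mul_eq_mul_right Nat.card_pos e2
  have hne := not_le_of_relIndex_prime Nat.prime_three h2
  have : Nontrivial Ω := ⟨⟨a, x • a, fun e => hne (by rw [← e])⟩⟩
  have hco := hprim.isCoatom_stabilizer_of_isPreprimitive G a
  refine sims hx h1 h2 fun N hN hA hB => ?_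
  have hn : N.Normal := normalizer_eq_top_iff.1 (hco.2 _ (lt_of_le_of_ne hA fun e => hne (hB.trans e.ge)))
  refine eq_bot_iff.2 fun n hn' => mem_bot.2 (FaithfulSMul.eq_of_smul_eq_smul (α := Ω) fun c => ?_)
  obtain ⟨g, rfl⟩ := exists_smul_eq G a c
  have : g⁻¹ * n * g ∈ stabilizer G a := (hN (hn.conj_mem' n hn' g)).1
  rw [mem_stabilizer_iff, mul_smul, mul_smul, inv_smul_eq_iff] at this
  rw [this, one_smul]

end H3.G3
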